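import Cfsg.Agent.Lib.Coprime.Action2
import Cfsg.Agent.Lib.Base.Cores
import Cfsg.Agent.Lib.FT.PLengthClosure
import Cfsg.Agent.Lib.Components.FourGroupFixedPoints

/-!
# The subgroup `O_{2',2}` of a subgroup
-/

set_option autoImplicit false
set_option linter.style.haveILetI false
set_option linter.unusedSectionVars false

namespace CfsgLib.CosetCore

open Cfsg Subgroup CfsgLib.Base
open scoped commutatorElement

universe u

variable {G : Type u} [Group G]

/-- The odd core of a subgroup. -/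
noncomputable def core (C : Subgroup G) : Subgroup G := (pPrimeCore 2 C).map C.subtype

/-- `O_{2',2}` of a subgroup. -/
noncomputable def o22 (C : Subgroup G) : Subgroup G := (pPrimePCore 2 C).map C.subtype

/-- Conjugate of a subgroup. -/
def cj (g : G) (H : Subgroup G) : Subgroup G := H.map (MulAut.conj g).toMonoidHom

theorem mem_cj {g x : G} {H : Subgroup G} : x ∈ cj g H ↔ g⁻¹ * x * g ∈ H := by
  constructor
  · rintro ⟨h, hh, rfl⟩
    simpa [mul_assoc] using hh
  · intro hx
    exact ⟨_, hx, by simp [mul_assoc]⟩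

theorem conj_mem_cj {g x : G} {H : Subgroup G} : g * x * g⁻¹ ∈ cj g H ↔ x ∈ H := by
  simp [mem_cj, mul_assoc]

theorem cj_mul (a b : G) (H : Subgroup G) : cj (a * b) H = cj a (cj b H) := by
  ext x; simp [mem_cj, mul_assoc]

theorem cj_one (H : Subgroup G) : cj 1 H = H := by
  ext x; simp [mem_cj]

theorem cj_mono {g : G} {H K : Subgroup G} (h : H ≤ K) : cj g H ≤ cj g K := map_mono h

theorem cj_le {g : G} {H K : Subgroup G} (h : H ≤ cj g K) : cj g⁻¹ H ≤ K := by
  have := cj_mono (g := g⁻¹) h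
  rwa [← cj_mul, inv_mul_cancel, cj_one] at this

theorem mem_normalizer_of_cj [Finite G] {g : G} {H : Subgroup G} (h : cj g H ≤ H) :
    g ∈ normalizer (H : Set G) := by
  refine mem_normalizer_iff_map_conj_eq.2 (eq_of_le_of_card_ge h (le_of_eq ?_))
  exact (Nat.card_congr (H.equivMapOfInjective _ (MulAut.conj g).injective).toEquiv)

theorem cj_of_mem_normalizer {g : G} {H : Subgroup G} (h : g ∈ normalizer (H : Set G)) :
    cj g H = H := mem_normalizer_iff_map_conj_eq.1 h

theorem core_le (C : Subgroup G) : core C ≤ C := map_subtype_le _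

theorem o22_le (C : Subgroup G) : o22 C ≤ C := map_subtype_le _

theorem le_normalizer_core (C : Subgroup G) : C ≤ normalizer (core C : Set G) :=
  le_normalizer_map_pPrimeCore _

variable [Finite G]

theorem core_coprime (C : Subgroup G) : (Nat.card (core C)).Coprime 2 :=
  coprime_card_map_pPrimeCore C

theorem le_core {C M : Subgroup G} (hMC : M ≤ C) (hn : C ≤ normalizer (M : Set G))
    (h : (Nat.card M).Coprime 2) : M ≤ core C :=
  le_map_pPrimeCore hMC hn h

theorem exists_pow_mem_core {C : Subgroup G} {x : G} (hx : x ∈ o22 C) :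
    ∃ k : ℕ, x ^ 2 ^ k ∈ core C := by
  haveI : Fact (Nat.Prime 2) := ⟨Nat.prime_two⟩
  obtain ⟨y, hy, rfl⟩ := hx
  obtain ⟨k, hk⟩ := CfsgLib.FT.exists_pow_mem_of_mem_pPrimePCore hy
  exact ⟨k, _, hk, map_pow _ _ _⟩

theorem le_normalizer_o22 (C : Subgroup G) : C ≤ normalizer (o22 C : Set G) := by
  haveI : Fact (Nat.Prime 2) := ⟨Nat.prime_two⟩
  haveI := CfsgLib.FT.pPrimePCore_characteristic 2 C
  exact le_normalizer.trans (normalizer_le_normalizer_map_subtype C _)

theorem normalizer_le_normalizer_core (C : Subgroup G) :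
    normalizer (C : Set G) ≤ normalizer (core C : Set G) :=
  normalizer_le_normalizer_map_subtype C _

theorem normalizer_le_normalizer_o22 (C : Subgroup G) :
    normalizer (C : Set G) ≤ normalizer (o22 C : Set G) := by
  haveI : Fact (Nat.Prime 2) := ⟨Nat.prime_two⟩
  haveI := CfsgLib.FT.pPrimePCore_characteristic 2 C
  exact normalizer_le_normalizer_map_subtype C _

/-- A normalized subgroup which is a `2`-group modulo a normalized odd subgroup. -/
theorem le_o22 {K N D : Subgroup G} (hN : N ≤ K) (hKN : K ≤ normalizer (N : Set G)) (hD : D ≤ K)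
    (hKD : K ≤ normalizer (D : Set G)) (hDo : (Nat.card D).Coprime 2)
    (h : ∀ x ∈ N, ∃ k : ℕ, x ^ 2 ^ k ∈ D) : N ≤ o22 K := by
  haveI : Fact (Nat.Prime 2) := ⟨Nat.prime_two⟩
  haveI := normal_subgroupOf_of_le_normalizer hKN
  haveI := normal_subgroupOf_of_le_normalizer hKD
  have hDc : D.subgroupOf K ≤ pPrimeCore 2 K :=
    le_pPrimeCore (by rw [card_subgroupOf hD]; exact hDo)
  have hle : N.subgroupOf K ≤ pPrimePCore 2 K := by
    refine CfsgLib.FT.le_pPrimePCore fun x hx => ?_
    obtain ⟨k, hk⟩ := h x hx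
    exact ⟨k, hDc (by simpa [mem_subgroupOf] using hk)⟩
  exact (map_subgroupOf_eq_of_le hN).ge.trans (map_mono hle)

/-- An element of odd order of `O_{2',2}` lies in the odd core. -/
theorem mem_core_of_odd {C : Subgroup G} {x : G} (hx : x ∈ o22 C)
    (ho : (orderOf x).Coprime 2) : x ∈ core C := by
  obtain ⟨k, hk⟩ := exists_pow_mem_core hx
  obtain ⟨i, hi⟩ := exists_pow_eq_self_of_coprime (x := x) (n := 2 ^ k)
    ((Nat.Coprime.pow_left k ho.symm))
  rw [← hi]
  exact pow_mem hk i

/-- `[Q, E] ≤ [O(C), E]` for odd `Q ≤ C` and `E ≤ O_{2',2}(C)`. -/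
theorem commutator_le_core {C E Q : Subgroup G} (hE : E ≤ o22 C) (hQC : Q ≤ C)
    (hEQ : E ≤ normalizer (Q : Set G)) (hQ : (Nat.card Q).Coprime 2) (hE2 : IsPGroup 2 E) :
    ⁅Q, E⁆ ≤ ⁅core C, E⁆ := by
  haveI : Fact (Nat.Prime 2) := ⟨Nat.prime_two⟩
  have h1 : ⁅Q, E⁆ ≤ core C := by
    intro x hx
    refine mem_core_of_odd ?_ (hQ.coprime_dvd_left (Subgroup.orderOf_dvd_natCard Q
      (CfsgLib.Coprime.commutator_le_of_le_normalizer hEQ hx)))
    refine (commutator_le.2 fun q hq e he => ?_) hx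
    rw [commutatorElement_def]
    exact mul_mem ((mem_normalizer_iff.1 (le_normalizer_o22 C (hQC hq)) e).1 (hE he))
      (inv_mem (hE he))
  have hcop : (Nat.card E).Coprime (Nat.card Q) := by
    obtain ⟨k, hk⟩ := IsPGroup.iff_card.1 hE2
    rw [hk]; exact Nat.Coprime.pow_left k hQ.symm
  have hsolv : Group.IsSolvable E := by
    haveI := hE2.isNilpotent
    infer_instance
  calc ⁅Q, E⁆ = ⁅⁅Q, E⁆, E⁆ :=
        (CfsgLib.Coprime.commutator_commutator_eq hEQ hcop (Or.inl hsolv)).symm
    _ ≤ ⁅core C, E⁆ := commutator_mono h1 le_rfl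

/-- An elementary abelian `2`-group is a `2`-group. -/
theorem isPGroup_el {V : Subgroup G} (hV : IsElementaryAbelian 2 V) : IsPGroup 2 V :=
  fun v => ⟨1, by rw [pow_one]; exact Subtype.ext (hV.2 v v.2)⟩

end CfsgLib.CosetCore
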