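import Cfsg.Agent.Lib.CosetCore.Fusion
import Cfsg.Agent.Lib.FgsB.RankThree.Complete
import Cfsg.Agent.Lib.FT.OddOrderTheorem
import Cfsg.Agent.Lib.Components.Signalizer

/-!
# A weakly closed central subgroup and a coset of involutions: the functor
-/

set_option autoImplicit false
set_option linter.style.haveILetI false
set_option linter.unusedSectionVars false

namespace CfsgLib.CosetCore

open Cfsg Subgroup CfsgLib.Base CfsgLib.Involutions
open scoped commutatorElement

universe u

variable {G : Type u} [Group G] [Finite G]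

theorem cj_core_le (g : G) (C : Subgroup G) : cj g (core C) ≤ core (cj g C) := by
  refine le_core (cj_mono (core_le C)) ?_ ?_
  · exact (map_mono (le_normalizer_core C)).trans (Subgroup.le_normalizer_map _)
  · rw [show Nat.card (cj g (core C)) = Nat.card (core C) from
      (Nat.card_congr ((core C).equivMapOfInjective _ (MulAut.conj g).injective).toEquiv).symm]
    exact core_coprime C

theorem cj_centralizer (g a : G) :
    cj g (centralizer ({a} : Set G)) = centralizer ({g * a * g⁻¹} : Set G) := by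
  ext x
  rw [mem_cj, mem_centralizer_singleton_iff, mem_centralizer_singleton_iff]
  constructor
  · intro hx
    calc x * (g * a * g⁻¹) = g * (g⁻¹ * x * g * a) * g⁻¹ := by group
      _ = g * (a * (g⁻¹ * x * g)) * g⁻¹ := by rw [hx]
      _ = _ := by group
  · intro hx
    calc g⁻¹ * x * g * a = g⁻¹ * (x * (g * a * g⁻¹)) * g := by group
      _ = g⁻¹ * (g * a * g⁻¹ * x) * g := by rw [hx]
      _ = _ := by group

theorem coprime_sup {H K : Subgroup G} (hH : H ≤ normalizer (K : Set G))
    (h1 : (Nat.card H).Coprime 2) (h2 : (Nat.card K).Coprime 2) :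
    (Nat.card ↥(H ⊔ K)).Coprime 2 := by
  have h := CfsgLib.Coprime.card_sup_mul_card_inf hH
  exact (Nat.Coprime.mul_left h1 h2).coprime_dvd_left (h ▸ Dvd.intro _ rfl)

variable {T : Sylow 2 G} {E : Subgroup G} {t : G}

/-- The acting group. -/
def acting (E : Subgroup G) (t : G) : Subgroup G := E ⊔ zpowers t

/-- The part `[O(C(a)), E]`. -/
noncomputable def moved (E : Subgroup G) (a : G) : Subgroup G :=
  ⁅core (centralizer ({a} : Set G)), E⁆

/-- The fixed part. -/
noncomputable def fixedPart (E : Subgroup G) (t : G) : Subgroup G :=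
  core (centralizer (E : Set G)) ⊔ core (centralizer (E : Set G) ⊓ centralizer ({t} : Set G))

/-- The signalizer functor. -/
noncomputable def fn (E : Subgroup G) (t : G) (a : G) : Subgroup G :=
  moved E a ⊔ (fixedPart E t ⊓ centralizer ({a} : Set G))

/-- The subgroup generated by the moved parts. -/
noncomputable def movedAll (E : Subgroup G) : Subgroup G :=
  ⨆ e : {e : G // e ∈ E ∧ e ≠ 1}, moved E (e : G)

/-- Every involution centraliser of `E` has `E` in `O_{2',2}`, and `E` is not cyclic. -/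
structure Core (T : Sylow 2 G) (E : Subgroup G) (t : G) : Prop extends Hyp T E t where
  four : 4 ≤ Nat.card E
  inner : ∀ e ∈ E, e ≠ 1 → E ≤ o22 (centralizer ({e} : Set G))

namespace Core

variable (h : Core T E t)
include h

theorem two_E : IsPGroup 2 E := isPGroup_el h.el

theorem mem_acting {a : G} : a ∈ acting E t ↔ a ∈ E ∨ ∃ w ∈ E, a = w * t := by
  have hn : E ≤ normalizer (zpowers t : Set G) := le_trans
    (fun e he => mem_centralizer_iff.2 (by
      intro z hz
      obtain ⟨i, rfl⟩ := mem_zpowers_iff.1 hz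
      exact ((show Commute e t from h.comm_t he).zpow_right i).eq.symm))
    (centralizer_le_normalizer _)
  constructor
  · intro ha
    obtain ⟨e, he, z, hz, rfl⟩ := (CfsgLib.Coprime.mem_sup_iff_of_le_normalizer hn).1 ha
    obtain ⟨i, rfl⟩ := mem_zpowers_iff.1 hz
    have hi : t ^ i = t ^ (i % 2) := (zpow_mod_orderOf t i).symm.trans (by rw [h.ht]; rfl)
    rw [hi]
    rcases Int.emod_two_eq_zero_or_one i with h0 | h1
    · exact Or.inl (by rwa [h0, zpow_zero, mul_one])
    · exact Or.inr ⟨e, he, by rw [h1, zpow_one]⟩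
  · rintro (ha | ⟨w, hw, rfl⟩)
    · exact le_sup_left (b := zpowers t) ha
    · exact mul_mem (le_sup_left (b := zpowers t) hw) (le_sup_right (a := E) (mem_zpowers t))

theorem acting_le : acting E t ≤ centralizer (E : Set G) :=
  sup_le h.le_centralizer (zpowers_le.2 (h.cen h.htT))

theorem el_acting : IsElementaryAbelian 2 (acting E t) := by
  have hsq : ∀ a ∈ acting E t, a ^ 2 = 1 := by
    intro a ha
    rcases h.mem_acting.1 ha with h1 | ⟨w, hw, rfl⟩
    · exact h.el.2 a h1
    · rw [pow_two, invol_mul_self (h.order_coset hw)]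
  refine ⟨⟨⟨fun a b => Subtype.ext ?_⟩⟩, hsq⟩
  have e1 : ∀ x ∈ acting E t, x⁻¹ = x := fun x hx =>
    inv_eq_of_mul_eq_one_right (by rw [← pow_two]; exact hsq x hx)
  calc (a : G) * b = ((a : G) * b)⁻¹ := (e1 _ (mul_mem a.2 b.2)).symm
    _ = _ := by rw [mul_inv_rev, e1 _ a.2, e1 _ b.2]; rfl

theorem card_acting : 2 ^ 3 ≤ Nat.card (acting E t) := by
  have hd : Nat.card E ∣ Nat.card (acting E t) := Subgroup.card_dvd_of_le le_sup_left
  obtain ⟨k, hk⟩ := hd
  have hne : Nat.card E ≠ Nat.card (acting E t) := fun e =>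
    h.htE ((eq_of_le_of_card_ge (le_sup_left (a := E) (b := zpowers t)) e.ge).symm ▸
      le_sup_right (a := E) (mem_zpowers t))
  have hpos : 0 < Nat.card (acting E t) := Nat.card_pos
  rcases k with _ | _ | k
  · omega
  · omega
  · rw [hk]; calc 2 ^ 3 = 4 * 2 := rfl
      _ ≤ Nat.card E * (k + 1 + 1) := Nat.mul_le_mul h.four (by omega)

theorem le_centralizer_acting {a : G} (ha : a ∈ acting E t) :
    acting E t ≤ centralizer ({a} : Set G) := fun b hb => by
  haveI := h.el_acting.1
  exact mem_centralizer_singleton_iff.2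
    (congrArg Subtype.val (mul_comm' (⟨b, hb⟩ : acting E t) ⟨a, ha⟩))

theorem E_le_centralizer {a : G} (ha : a ∈ acting E t) : E ≤ centralizer ({a} : Set G) :=
  le_sup_left.trans (h.le_centralizer_acting ha)

theorem le_o22' {a : G} (ha : a ∈ acting E t) (h1 : a ≠ 1) :
    E ≤ o22 (centralizer ({a} : Set G)) := by
  rcases h.mem_acting.1 ha with he | ⟨w, hw, rfl⟩
  · exact h.inner a he h1
  · exact h.hcos w hw

theorem fixedPart_le : fixedPart E t ≤ centralizer (E : Set G) :=
  sup_le (core_le _) ((core_le _).trans inf_le_left)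

theorem coprime_fixedPart : (Nat.card (fixedPart E t)).Coprime 2 := by
  rw [fixedPart, sup_comm]
  exact coprime_sup (((core_le _).trans inf_le_left).trans (le_normalizer_core _))
    (core_coprime _) (core_coprime _)

theorem le_normalizer_core' {a : G} (ha : a ∈ acting E t) :
    acting E t ≤ normalizer (core (centralizer ({a} : Set G)) : Set G) :=
  (h.le_centralizer_acting ha).trans (le_normalizer_core _)

theorem core_inf_le {a : G} (ha : a ∈ acting E t) :
    core (centralizer ({a} : Set G)) ⊓ centralizer (E : Set G) ≤ fixedPart E t := by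
  have hodd : (Nat.card ↥(core (centralizer ({a} : Set G)) ⊓ centralizer (E : Set G))).Coprime 2 :=
    (core_coprime _).coprime_dvd_left (Subgroup.card_dvd_of_le inf_le_left)
  rcases h.mem_acting.1 ha with he | ⟨w, hw, rfl⟩
  · refine le_trans ?_ le_sup_left
    refine le_core inf_le_right ?_ hodd
    have h1 : centralizer (E : Set G) ≤ centralizer ({a} : Set G) :=
      centralizer_le (Set.singleton_subset_iff.2 he)
    exact (le_inf (h1.trans (le_normalizer_core _)) le_normalizer).trans
      inf_normalizer_le_normalizer_inf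
  · refine le_trans ?_ le_sup_right
    have h2 : ∀ x ∈ centralizer (E : Set G),
        x ∈ centralizer ({w * t} : Set G) ↔ x ∈ centralizer ({t} : Set G) := by
      intro x hx
      rw [mem_centralizer_singleton_iff, mem_centralizer_singleton_iff, ← mul_assoc,
        ← mem_centralizer_iff.1 hx w hw, mul_assoc, mul_assoc, mul_right_inj]
    refine le_core (le_inf inf_le_right fun x hx => (h2 x hx.2).1 (core_le _ hx.1)) ?_ hodd
    refine (le_inf (le_trans ?_ (le_normalizer_core _)) ?_).trans inf_normalizer_le_normalizer_inf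
    · exact fun x hx => (h2 x hx.1).2 hx.2
    · exact inf_le_left.trans le_normalizer

theorem moved_le {a : G} (ha : a ∈ acting E t) :
    moved E a ≤ core (centralizer ({a} : Set G)) :=
  CfsgLib.Coprime.commutator_le_of_le_normalizer (le_sup_left.trans (h.le_normalizer_core' ha))

theorem normalizer_moved {a : G} :
    centralizer (E : Set G) ⊓ centralizer ({a} : Set G) ≤ normalizer (moved E a : Set G) := by
  intro x hx
  refine mem_normalizer_of_cj (le_of_eq ?_)
  rw [moved, cj, map_commutator]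
  congr 1
  · exact cj_of_mem_normalizer (le_normalizer_core _ hx.2)
  · exact cj_of_mem_normalizer (centralizer_le_normalizer _ hx.1)

theorem acting_le_normalizer_moved {a : G} (ha : a ∈ acting E t) :
    acting E t ≤ normalizer (moved E a : Set G) :=
  (le_inf h.acting_le (h.le_centralizer_acting ha)).trans h.normalizer_moved

theorem inf_normalizes {a : G} :
    fixedPart E t ⊓ centralizer ({a} : Set G) ≤ normalizer (moved E a : Set G) :=
  (inf_le_inf_right _ h.fixedPart_le).trans h.normalizer_moved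

theorem fn_le {a : G} (ha : a ∈ acting E t) : fn E t a ≤ centralizer ({a} : Set G) :=
  sup_le ((h.moved_le ha).trans (core_le _)) inf_le_right

theorem coprime_fn {a : G} (ha : a ∈ acting E t) : (Nat.card (fn E t a)).Coprime 2 := by
  rw [fn, sup_comm]
  exact coprime_sup h.inf_normalizes
    (h.coprime_fixedPart.coprime_dvd_left (Subgroup.card_dvd_of_le inf_le_left))
    ((core_coprime _).coprime_dvd_left (Subgroup.card_dvd_of_le (h.moved_le ha)))

theorem acting_le_normalizer_fixedPart :
    acting E t ≤ normalizer (fixedPart E t : Set G) := by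
  refine CfsgLib.Coprime.le_normalizer_sup_sup (h.acting_le.trans (le_normalizer_core _)) ?_
  refine le_trans (le_inf h.acting_le ?_) (le_normalizer_core _)
  exact h.le_centralizer_acting (le_sup_right (a := E) (mem_zpowers t))

theorem acting_le_normalizer_fn {a : G} (ha : a ∈ acting E t) :
    acting E t ≤ normalizer (fn E t a : Set G) := by
  refine CfsgLib.Coprime.le_normalizer_sup_sup (h.acting_le_normalizer_moved ha) ?_
  exact (le_inf h.acting_le_normalizer_fixedPart
    ((h.le_centralizer_acting ha).trans le_normalizer)).trans inf_normalizer_le_normalizer_inf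

theorem coprime_card_E {Q : Subgroup G} (hQ : (Nat.card Q).Coprime 2) :
    (Nat.card E).Coprime (Nat.card Q) := by
  haveI : Fact (Nat.Prime 2) := ⟨Nat.prime_two⟩
  obtain ⟨k, hk⟩ := IsPGroup.iff_card.1 h.two_E
  rw [hk]; exact Nat.Coprime.pow_left k hQ.symm

theorem solvable_E : Group.IsSolvable E := by
  haveI := h.el.1
  exact Group.isSolvable_of_comm fun a b => mul_comm' a b

/-- A split coprime `E`-group. -/
theorem split {Q : Subgroup G} (hEQ : E ≤ normalizer (Q : Set G))
    (hQ : (Nat.card Q).Coprime 2) : ⁅Q, E⁆ ⊔ (Q ⊓ centralizer (E : Set G)) = Q :=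
  CfsgLib.Coprime.commutator_sup_centralizer hEQ (h.coprime_card_E hQ) (Or.inl h.solvable_E)

theorem fn_inf_le {a b : G} (ha : a ∈ acting E t) (hb : b ∈ acting E t) (hb1 : b ≠ 1) :
    fn E t a ⊓ centralizer ({b} : Set G) ≤ fn E t b := by
  set Q := fn E t a ⊓ centralizer ({b} : Set G)
  have hEQ : E ≤ normalizer (Q : Set G) :=
    (le_inf (le_sup_left.trans (h.acting_le_normalizer_fn ha))
      ((h.E_le_centralizer hb).trans le_normalizer)).trans inf_normalizer_le_normalizer_inf
  have hQ : (Nat.card Q).Coprime 2 :=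
    (h.coprime_fn ha).coprime_dvd_left (Subgroup.card_dvd_of_le inf_le_left)
  rw [← h.split hEQ hQ]
  refine sup_le_sup (commutator_le_core (h.le_o22' hb hb1) inf_le_right hEQ hQ h.two_E)
    (le_inf ?_ (inf_le_left.trans inf_le_right))
  rintro x ⟨⟨hx, -⟩, hxE⟩
  have hx' : x ∈ (fixedPart E t ⊓ centralizer ({a} : Set G)) ⊔ moved E a := by
    rw [sup_comm]; exact hx
  obtain ⟨m, hm, k, hk, rfl⟩ := (CfsgLib.Coprime.mem_sup_iff_of_le_normalizer
    (h.inf_normalizes (a := a))).1 hx'
  exact mul_mem hm.1 (h.core_inf_le ha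
    ⟨h.moved_le ha hk, (mul_mem_cancel_left (h.fixedPart_le hm.1)).1 hxE⟩)

theorem functor : IsSolvableSignalizerFunctor 2 (acting E t) (fn E t) := by
  refine ⟨⟨fun a ha _ => h.fn_le ha, fun a ha _ hd => ?_, fun a ha _ => ?_,
    fun a ha _ b hb hb1 => h.fn_inf_le ha hb hb1⟩, fun a ha _ => ?_⟩
  · exact (Nat.prime_two.coprime_iff_not_dvd.1 (h.coprime_fn ha).symm) hd
  · exact CfsgLib.Signalizer.conj_invariant_iff.2 (h.acting_le_normalizer_fn ha)
  · exact CfsgLib.FT.isSolvable_of_odd (Nat.coprime_two_right.1 (h.coprime_fn ha))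

theorem coprime_movedAll : (Nat.card (movedAll E)).Coprime 2 := by
  haveI : Fact (Nat.Prime 2) := ⟨Nat.prime_two⟩
  obtain ⟨X, hX, hXle⟩ :=
    CfsgLib.FgsB.RankThree.comp_of_three_le h.el_acting h.card_acting h.functor
  refine (Nat.prime_two.coprime_iff_not_dvd.2 hX.2.1).symm.coprime_dvd_left
    (Subgroup.card_dvd_of_le (iSup_le fun e => ?_))
  exact le_sup_left.trans (hXle e (le_sup_left (b := zpowers t) e.2.1) e.2.2)

theorem normalizer_le_movedAll :
    normalizer (E : Set G) ≤ normalizer (movedAll E : Set G) := by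
  intro n hn
  refine mem_normalizer_of_cj ?_
  rw [movedAll, cj, Subgroup.map_iSup]
  refine iSup_le fun e => ?_
  have he : n * e * n⁻¹ ∈ E ∧ n * e * n⁻¹ ≠ 1 :=
    ⟨(mem_normalizer_iff.1 hn _).1 e.2.1, fun h1 => e.2.2 (by simpa using h1)⟩
  refine le_trans ?_ (le_iSup (fun f : {e : G // e ∈ E ∧ e ≠ 1} => moved E (f : G)) ⟨_, he⟩)
  show (moved E e).map _ ≤ _
  rw [moved, map_commutator]
  refine commutator_mono ?_ (cj_of_mem_normalizer hn).le
  exact (cj_core_le n _).trans (by rw [cj_centralizer])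

theorem moved_le_movedAll {a : G} (ha : a ∈ acting E t) : moved E a ≤ movedAll E := by
  set K := moved E a
  have hEK : E ≤ normalizer (K : Set G) := le_sup_left.trans (h.acting_le_normalizer_moved ha)
  have hK : (Nat.card K).Coprime 2 :=
    (core_coprime _).coprime_dvd_left (Subgroup.card_dvd_of_le (h.moved_le ha))
  haveI := h.el.1
  have hnc : ¬ IsCyclic E := by
    intro hc
    have h2 : Monoid.exponent E ∣ 2 :=
      Monoid.exponent_dvd_of_forall_pow_eq_one fun v => Subtype.ext (h.el.2 v v.2)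
    rw [IsCyclic.exponent_eq_card] at h2
    have := Nat.le_of_dvd two_pos h2
    have := h.four
    omega
  have hle : K ≤ movedAll E ⊔ (K ⊓ centralizer (E : Set G)) := by
    refine CfsgLib.Coprime.le_of_centralizer_le_of_not_isCyclic hnc hEK (h.coprime_card_E hK)
      fun e he he1 => ?_
    have heA : e ∈ acting E t := le_sup_left (b := zpowers t) he
    set Q := K ⊓ centralizer ({e} : Set G)
    have hEQ : E ≤ normalizer (Q : Set G) :=
      (le_inf hEK ((h.E_le_centralizer heA).trans le_normalizer)).trans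
        inf_normalizer_le_normalizer_inf
    have hQ : (Nat.card Q).Coprime 2 := hK.coprime_dvd_left (Subgroup.card_dvd_of_le inf_le_left)
    rw [← h.split hEQ hQ]
    refine sup_le_sup (le_trans ?_ (le_iSup
      (fun f : {e : G // e ∈ E ∧ e ≠ 1} => moved E (f : G)) ⟨e, he, he1⟩))
      (inf_le_inf_right _ inf_le_left)
    exact commutator_le_core (h.inner e he he1) inf_le_right hEQ hQ h.two_E
  have hsolv : Group.IsSolvable E := h.solvable_E
  have hKK : ⁅K, E⁆ = K := CfsgLib.Coprime.commutator_commutator_eq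
    (le_sup_left.trans (h.le_normalizer_core' ha)) (h.coprime_card_E (core_coprime _))
    (Or.inl hsolv)
  rw [← hKK]
  refine (commutator_mono hle le_rfl).trans (commutator_le.2 fun k hk e he => ?_)
  have hn : K ⊓ centralizer (E : Set G) ≤ normalizer (movedAll E : Set G) :=
    inf_le_right.trans ((centralizer_le_normalizer _).trans h.normalizer_le_movedAll)
  rw [sup_comm] at hk
  obtain ⟨c, hc, r, hr, rfl⟩ := (CfsgLib.Coprime.mem_sup_iff_of_le_normalizer hn).1 hk
  have he' : e ∈ normalizer (movedAll E : Set G) :=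
    h.normalizer_le_movedAll (le_normalizer he)
  rw [commutatorElement_def]
  have h1 : c * e = e * c := (mem_centralizer_iff.1 hc.2 e he).symm
  have h2 : c * r * e * (c * r)⁻¹ * e⁻¹ = c * (r * (e * r⁻¹ * e⁻¹)) * c⁻¹ := by
    rw [mul_inv_rev]
    calc c * r * e * (r⁻¹ * c⁻¹) * e⁻¹ = c * r * e * r⁻¹ * (c⁻¹ * e⁻¹) := by group
      _ = c * r * e * r⁻¹ * (e⁻¹ * c⁻¹) := by rw [← mul_inv_rev, ← h1, mul_inv_rev]
      _ = _ := by group
  rw [h2]
  exact (mem_normalizer_iff.1 (hn hc) _).1
    (mul_mem hr ((mem_normalizer_iff.1 he' _).1 (inv_mem hr)))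

theorem centralizer_le {a : G} (ha : a ∈ acting E t) (ha1 : a ≠ 1) :
    centralizer ({a} : Set G) ≤ movedAll E ⊔ normalizer (E : Set G) := by
  haveI : Fact (Nat.Prime 2) := ⟨Nat.prime_two⟩
  set H := movedAll E ⊔ normalizer (E : Set G)
  have hcore : core (centralizer ({a} : Set G)) ≤ H := by
    rw [← h.split (le_sup_left.trans (h.le_normalizer_core' ha)) (core_coprime _)]
    exact sup_le_sup (h.moved_le_movedAll ha) (inf_le_right.trans (centralizer_le_normalizer _))
  set C := centralizer ({a} : Set G)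
  have hEo : E ≤ o22 C := h.le_o22' ha ha1
  have ho : o22 C ≤ H := by
    obtain ⟨P, hP⟩ := ((h.two_E.comap_of_injective C.subtype C.subtype_injective).comap_of_injective
      (pPrimePCore 2 C).subtype (pPrimePCore 2 C).subtype_injective).exists_le_sylow
    have h2 : IsPGroup 2 (((P : Subgroup ↥(pPrimePCore 2 C)).map (pPrimePCore 2 C).subtype).map
        C.subtype) := (P.isPGroup'.map _).map _
    have h3 := h.le_centralizer_of_isPGroup h2 fun e he => by
      obtain ⟨y, hy, rfl⟩ := hEo he
      exact ⟨y, ⟨⟨y, hy⟩, hP (show _ ∈ E from he), rfl⟩, rfl⟩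
    rintro _ ⟨x, hx, rfl⟩
    have h4 : QuotientGroup.mk' (pPrimeCore 2 C) x ∈ pCore 2 (C ⧸ pPrimeCore 2 C) := hx
    rw [← CfsgLib.PLocal.map_sylow_pPrimePCore P] at h4
    obtain ⟨p, hp, he⟩ := h4
    have h5 : p⁻¹ * x ∈ pPrimeCore 2 C := QuotientGroup.eq.1 he
    rw [show x = p * (p⁻¹ * x) by group, map_mul]
    exact mul_mem (le_sup_right (a := movedAll E) (centralizer_le_normalizer _ (h3 ⟨p, hp, rfl⟩)))
      (hcore ⟨_, h5, rfl⟩)
  intro g hg
  have hgE : cj g E ≤ o22 C := by
    rw [← cj_of_mem_normalizer (le_normalizer_o22 C hg)]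
    exact cj_mono hEo
  obtain ⟨c, hc, hcg⟩ := h.exists_conj hEo hgE
  rw [show g = c⁻¹ * (c * g) by group]
  exact mul_mem (inv_mem (ho hc)) (le_sup_right (a := movedAll E) hcg)

theorem eq_top : movedAll E ⊔ normalizer (E : Set G) = ⊤ := by
  set H := movedAll E ⊔ normalizer (E : Set G)
  have hne : E ≠ ⊥ := fun e => by
    have := h.four
    rw [e, card_bot] at this
    omega
  obtain ⟨⟨e, he⟩, hne1⟩ := (Subgroup.ne_bot_iff_exists_ne_one (H := E)).1 hne
  have he1 : e ≠ 1 := fun h1 => hne1 (Subtype.ext h1)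
  have he2 : orderOf e = 2 := invol_iff.2 ⟨h.sq he, he1⟩
  have heA : e ∈ acting E t := le_sup_left (b := zpowers t) he
  have ht' : t ∈ acting E t := le_sup_right (a := E) (mem_zpowers t)
  refine eq_top_iff.2 fun g _ => ?_
  set y := g * t * g⁻¹ with hy
  have hy2 : orderOf y = 2 := conj_invol g h.ht
  obtain ⟨k, hk⟩ := exists_two_power he2 hy2
  set r := (e * y) ^ k with hr
  set y' := r * y * r⁻¹ with hy'
  have hcomm : Commute r (e * y') := by
    have h1 : e * r = r⁻¹ * e := by rw [hr, invol_mul_zpow he2 hy2, zpow_neg]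
    have h2 : e * y' = r⁻¹ * (e * y) * r⁻¹ := by
      calc e * y' = e * r * y * r⁻¹ := by rw [hy']; group
        _ = r⁻¹ * e * y * r⁻¹ := by rw [h1]
        _ = _ := by group
    rw [h2]
    have h3 : Commute r (e * y) := ((Commute.refl (e * y)).zpow_left k)
    exact (((Commute.refl r).inv_right).mul_right h3).mul_right ((Commute.refl r).inv_right)
  obtain ⟨z, hz⟩ := h.exists_sylow_over hk
  have hez := hz (subset_closure (Set.mem_insert _ _))
  have hyz := hz (subset_closure (Set.mem_insert_of_mem _ (Set.mem_singleton _)))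
  have hE' : cj z E ≤ centralizer ({e} : Set G) := fun f hf =>
    mem_centralizer_singleton_iff.2 (mem_centralizer_iff.1 (h.cj_sylow_le z hez) f hf)
  obtain ⟨c, hc, hcz⟩ := h.exists_conj (h.E_le_centralizer heA) hE'
  have hce : c * e * c⁻¹ = e := by
    rw [mem_centralizer_singleton_iff.1 hc, mul_inv_cancel_right]
  have hcy : c * y' * c⁻¹ ∈ centralizer (E : Set G) := by
    refine mem_centralizer_iff.2 fun f hf => ?_
    rw [← cj_of_mem_normalizer hcz, cj_mul] at hf
    obtain ⟨f', hf', rfl⟩ := hf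
    have h1 := mem_centralizer_iff.1 (h.cj_sylow_le z hyz) f' hf'
    show c * f' * c⁻¹ * (c * y' * c⁻¹) = c * y' * c⁻¹ * (c * f' * c⁻¹)
    calc c * f' * c⁻¹ * (c * y' * c⁻¹) = c * (f' * y') * c⁻¹ := by group
      _ = c * (y' * f') * c⁻¹ := by rw [h1]
      _ = _ := by group
  have h1t : (1 : G) * t = t := one_mul t
  have hform : c * y' * c⁻¹ = (c * r * g) * ((1 : G) * t) * (c * r * g)⁻¹ := by
    rw [hy', hy, h1t]; group
  rw [hform] at hcy
  obtain ⟨n, hn, hn'⟩ := h.exists_normalizer_conj (one_mem E) hcy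
  rw [← hform, h1t] at hn'
  have hcH : c ∈ H := h.centralizer_le heA he1 hc
  have hnH : n ∈ H := le_sup_right (a := movedAll E) hn
  set a := (n⁻¹ * e * n) * t with hadef
  have hwE : n⁻¹ * e * n ∈ E := by
    simpa using (mem_normalizer_iff.1 (inv_mem hn) e).1 he
  have haA : a ∈ acting E t := h.mem_acting.2 (Or.inr ⟨_, hwE, rfl⟩)
  have hz0 : e * y' = (c⁻¹ * n) * a * (c⁻¹ * n)⁻¹ := by
    calc e * y' = c⁻¹ * ((c * e * c⁻¹) * (c * y' * c⁻¹)) * c := by group
      _ = c⁻¹ * (e * (n * t * n⁻¹)) * c := by rw [hce, hn']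
      _ = _ := by rw [hadef]; group
  have hrH : r ∈ H := by
    have hra : (c⁻¹ * n)⁻¹ * r * (c⁻¹ * n) ∈ centralizer ({a} : Set G) := by
      rw [← mem_cj, cj_centralizer, ← hz0]
      exact mem_centralizer_singleton_iff.2 hcomm.eq
    have h5 := mul_mem (mul_mem (mul_mem (inv_mem hcH) hnH)
      (h.centralizer_le haA (invol_ne_one (h.order_coset hwE)) hra))
      (inv_mem (mul_mem (inv_mem hcH) hnH))
    simpa [mul_assoc] using h5
  have hgt : (r⁻¹ * c⁻¹ * n)⁻¹ * g ∈ centralizer ({t} : Set G) := by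
    refine mem_centralizer_singleton_iff.2 ?_
    have h6 : g * t * g⁻¹ = r⁻¹ * c⁻¹ * n * t * (r⁻¹ * c⁻¹ * n)⁻¹ := by
      calc g * t * g⁻¹ = r⁻¹ * (c⁻¹ * (c * y' * c⁻¹) * c) * r := by rw [hy', hy]; group
        _ = r⁻¹ * (c⁻¹ * (n * t * n⁻¹) * c) * r := by rw [hn']
        _ = _ := by group
    calc (r⁻¹ * c⁻¹ * n)⁻¹ * g * t = (r⁻¹ * c⁻¹ * n)⁻¹ * (g * t * g⁻¹) * g := by group
      _ = (r⁻¹ * c⁻¹ * n)⁻¹ * (r⁻¹ * c⁻¹ * n * t * (r⁻¹ * c⁻¹ * n)⁻¹) * g := by rw [h6]
      _ = _ := by group
  have := mul_mem (mul_mem (mul_mem (inv_mem hrH) (inv_mem hcH)) hnH)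
    (h.centralizer_le ht' (invol_ne_one h.ht) hgt)
  rwa [mul_inv_cancel_left] at this

/-- With trivial odd core, `E` lies in `O_{2',2}`. -/
theorem le_pPrimePCore' (hO : pPrimeCore 2 G = ⊥) : E ≤ pPrimePCore 2 G := by
  haveI : Fact (Nat.Prime 2) := ⟨Nat.prime_two⟩
  have hR : movedAll E ⊔ normalizer (E : Set G) ≤ normalizer (movedAll E : Set G) :=
    sup_le le_normalizer h.normalizer_le_movedAll
  rw [h.eq_top] at hR
  haveI : (movedAll E).Normal := normalizer_eq_top_iff.1 (top_le_iff.1 hR)
  have hbot : movedAll E = ⊥ := le_bot_iff.1 (hO ▸ le_pPrimeCore h.coprime_movedAll)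
  have htop := h.eq_top
  rw [hbot, bot_sup_eq] at htop
  haveI : E.Normal := normalizer_eq_top_iff.1 htop
  rw [CfsgLib.PLocal.pPrimePCore_eq_pCore hO]
  exact le_pCore h.two_E

end Core

end CfsgLib.CosetCore
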