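import Cfsg.Agent.Lib.CosetCore.Basic
import Cfsg.Agent.Lib.Involutions.Isolated
import Cfsg.Agent.Lib.Involutions.Dihedral
import Cfsg.Agent.Lib.PLocal.Constrained
import Cfsg.Prelude.Def_Transfer

/-!
# A weakly closed central subgroup and a coset of involutions: fusion
-/

set_option autoImplicit false
set_option linter.style.haveILetI false
set_option linter.unusedSectionVars false

namespace CfsgLib.CosetCore

open Cfsg Subgroup CfsgLib.Base CfsgLib.Involutions

universe u

variable {G : Type u} [Group G] [Finite G]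

/-- `E` is elementary, central in `T` and weakly closed; `E ≤ O_{2',2}(C(x))` on the coset `E t`. -/
structure Hyp (T : Sylow 2 G) (E : Subgroup G) (t : G) : Prop where
  el : IsElementaryAbelian 2 E
  le : E ≤ (T : Subgroup G)
  cen : (T : Subgroup G) ≤ centralizer (E : Set G)
  wc : ∀ g : G, cj g E ≤ (T : Subgroup G) → cj g E = E
  ht : orderOf t = 2
  htT : t ∈ (T : Subgroup G)
  htE : t ∉ E
  hcos : ∀ w ∈ E, E ≤ o22 (centralizer ({w * t} : Set G))

variable {T : Sylow 2 G} {E : Subgroup G} {t : G}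

namespace Hyp

variable (h : Hyp T E t)
include h

theorem sq {e : G} (he : e ∈ E) : e * e = 1 := by
  have := h.el.2 e he
  rwa [pow_two] at this

theorem comm {e f : G} (he : e ∈ E) (hf : f ∈ E) : e * f = f * e :=
  (mem_centralizer_iff.1 (h.cen (h.le hf)) e he)

theorem le_centralizer : E ≤ centralizer (E : Set G) := h.le.trans h.cen

theorem comm_t {e : G} (he : e ∈ E) : e * t = t * e := mem_centralizer_iff.1 (h.cen h.htT) e he

theorem order_coset {w : G} (hw : w ∈ E) : orderOf (w * t) = 2 := by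
  refine invol_iff.2 ⟨?_, fun e => h.htE ?_⟩
  · rw [mul_assoc, ← mul_assoc t w t, ← h.comm_t hw, mul_assoc, ← mul_assoc w w, h.sq hw, one_mul,
      invol_mul_self h.ht]
  · rw [show t = w⁻¹ from eq_inv_of_mul_eq_one_right e]
    exact inv_mem hw

theorem coset_mem {w : G} (hw : w ∈ E) : w * t ∈ (T : Subgroup G) := mul_mem (h.le hw) h.htT

theorem le_centralizer_coset {w : G} (hw : w ∈ E) : E ≤ centralizer ({w * t} : Set G) := fun e he =>
  mem_centralizer_singleton_iff.2 (mem_centralizer_iff.1 (h.cen (h.coset_mem hw)) e he)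

/-- Conjugates of `E` in one Sylow subgroup coincide. -/
theorem eq_cj {g z : G} (hg : cj g E ≤ cj z (T : Subgroup G)) : cj g E = cj z E := by
  have h1 := cj_le hg
  rw [← cj_mul] at h1
  conv_rhs => rw [← h.wc _ h1, ← cj_mul, mul_inv_cancel_left]

/-- A conjugate of the Sylow subgroup centralizes the corresponding conjugate of `E`. -/
theorem cj_sylow_le (z : G) : cj z (T : Subgroup G) ≤ centralizer ((cj z E : Subgroup G) : Set G) := by
  intro x hx
  refine mem_centralizer_iff.2 fun e he => ?_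
  have h1 := mem_centralizer_iff.1 (h.cen (mem_cj.1 hx)) _ (mem_cj.1 he)
  calc e * x = z * ((z⁻¹ * e * z) * (z⁻¹ * x * z)) * z⁻¹ := by group
    _ = z * ((z⁻¹ * x * z) * (z⁻¹ * e * z)) * z⁻¹ := by rw [h1]
    _ = x * e := by group

theorem exists_sylow_over {P : Subgroup G} (hP : IsPGroup 2 P) :
    ∃ z : G, P ≤ cj z (T : Subgroup G) := by
  obtain ⟨Q, hQ⟩ := hP.exists_le_sylow
  obtain ⟨z, rfl⟩ := MulAction.exists_smul_eq G T Q
  refine ⟨z, fun x hx => mem_cj.2 ?_⟩
  have := mem_smul_sylow_iff'.1 (hQ hx)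
  rw [mul_assoc] at this ⊢
  exact this

/-- A `2`-group containing `E` centralizes it. -/
theorem le_centralizer_of_isPGroup {P : Subgroup G} (hP : IsPGroup 2 P) (hEP : E ≤ P) :
    P ≤ centralizer (E : Set G) := by
  obtain ⟨z, hz⟩ := h.exists_sylow_over hP
  have h1 : cj 1 E = cj z E := h.eq_cj (by rw [cj_one]; exact hEP.trans hz)
  rw [cj_one] at h1
  exact h1.symm ▸ hz.trans (h.cj_sylow_le z)

/-- Conjugates of `E` in a subgroup are conjugate in it. -/
theorem exists_conj {C : Subgroup G} (hEC : E ≤ C) {g : G} (hg : cj g E ≤ C) :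
    ∃ c ∈ C, c * g ∈ normalizer (E : Set G) := by
  haveI : Fact (Nat.Prime 2) := ⟨Nat.prime_two⟩
  have hp : IsPGroup 2 E := isPGroup_el h.el
  obtain ⟨P, hP⟩ := (hp.comap_of_injective C.subtype C.subtype_injective).exists_le_sylow
  obtain ⟨P', hP'⟩ := ((hp.map (MulAut.conj g).toMonoidHom).comap_of_injective C.subtype
    C.subtype_injective).exists_le_sylow
  obtain ⟨c, rfl⟩ := MulAction.exists_smul_eq C P' P
  refine ⟨c, c.2, mem_normalizer_of_cj ?_⟩
  have hQ : IsPGroup 2 (((c • P' : Sylow 2 C) : Subgroup C).map C.subtype) :=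
    (c • P').isPGroup'.map _
  obtain ⟨z, hz⟩ := h.exists_sylow_over hQ
  have h1 : E ≤ cj z (T : Subgroup G) := fun x hx =>
    hz ⟨⟨x, hEC hx⟩, hP (show (⟨x, hEC hx⟩ : C) ∈ E.comap C.subtype from hx), rfl⟩
  have h2 : cj ((c : G) * g) E ≤ cj z (T : Subgroup G) := by
    intro x hx
    rw [cj_mul] at hx
    obtain ⟨y, hy, rfl⟩ := hx
    refine hz ⟨c * ⟨y, hg hy⟩ * c⁻¹, ?_, rfl⟩
    refine mem_smul_sylow_iff'.2 ?_
    have : (⟨y, hg hy⟩ : C) ∈ P' := hP' hy
    simpa [mul_assoc] using this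
  have e1 : cj 1 E = cj z E := h.eq_cj (by rw [cj_one]; exact h1)
  rw [cj_one] at e1
  rw [h.eq_cj h2, ← e1]

/-- A conjugate of a coset involution centralizing `E` is conjugate to it in `N(E)`. -/
theorem exists_normalizer_conj {w : G} (hw : w ∈ E) {g : G}
    (hy : g * (w * t) * g⁻¹ ∈ centralizer (E : Set G)) :
    ∃ n ∈ normalizer (E : Set G), g * (w * t) * g⁻¹ = n * (w * t) * n⁻¹ := by
  set y := g * (w * t) * g⁻¹ with hy'
  have h1 : E ≤ centralizer ({y} : Set G) := fun e he =>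
    mem_centralizer_singleton_iff.2 (mem_centralizer_iff.1 hy e he)
  have h2 : cj g E ≤ centralizer ({y} : Set G) := by
    rintro _ ⟨e, he, rfl⟩
    refine mem_centralizer_singleton_iff.2 ?_
    have h3 := mem_centralizer_singleton_iff.1 (h.le_centralizer_coset hw he)
    show g * e * g⁻¹ * (g * (w * t) * g⁻¹) = g * (w * t) * g⁻¹ * (g * e * g⁻¹)
    calc g * e * g⁻¹ * (g * (w * t) * g⁻¹) = g * (e * (w * t)) * g⁻¹ := by group
      _ = g * (w * t * e) * g⁻¹ := by rw [h3]
      _ = _ := by group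
  obtain ⟨c, hc, hcg⟩ := h.exists_conj h1 h2
  refine ⟨c * g, hcg, ?_⟩
  have h4 := mem_centralizer_singleton_iff.1 hc
  calc y = c * y * c⁻¹ := by rw [h4, mul_inv_cancel_right]
    _ = _ := by rw [hy']; group

/-- A coset involution is conjugate to no element of `E`. -/
theorem not_conj_mem {w : G} (hw : w ∈ E) (g : G) : g * (w * t) * g⁻¹ ∉ E := by
  intro hg
  obtain ⟨n, hn, e⟩ := h.exists_normalizer_conj hw (h.le_centralizer hg)
  rw [e] at hg
  exact h.htE ((mul_mem_cancel_left hw).1 ((mem_normalizer_iff.1 hn _).2 hg))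

end Hyp

/-- In a dihedral group one of two involutions can be moved to generate a `2`-group with the other. -/
theorem exists_two_power {e y : G} (he : orderOf e = 2) (hy : orderOf y = 2) :
    ∃ k : ℤ, IsPGroup 2 (closure ({e, (e * y) ^ k * y * ((e * y) ^ k)⁻¹} : Set G)) := by
  obtain ⟨j, m, hm, hn⟩ := Nat.exists_eq_two_pow_mul_odd (orderOf_pos (e * y)).ne'
  obtain ⟨i, hi⟩ := hm
  refine ⟨(i : ℤ) + 1, ?_⟩
  set y' := (e * y) ^ ((i : ℤ) + 1) * y * ((e * y) ^ ((i : ℤ) + 1))⁻¹ with hy'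
  have hy'2 : orderOf y' = 2 := conj_invol _ hy
  have hconj : y * (e * y) * y⁻¹ = (e * y)⁻¹ := by
    rw [mul_inv_rev, invol_inv he, invol_inv hy]
    calc y * (e * y) * y = y * e * (y * y) := by group
      _ = y * e := by rw [invol_mul_self hy, mul_one]
  have hey : e * y' = (e * y) ^ (-(2 * (i : ℤ) + 1)) := by
    have h1 : y * (e * y) ^ ((i : ℤ) + 1) * y⁻¹ = (e * y) ^ (-((i : ℤ) + 1)) := by
      rw [← conj_zpow, hconj, inv_zpow, zpow_neg]
    have h2 : (e * y) ^ ((i : ℤ) + 1) * y = y * (e * y) ^ (-((i : ℤ) + 1)) := by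
      rw [← h1, ← mul_assoc, ← mul_assoc, invol_mul_self hy, one_mul, invol_inv hy]
    calc e * y' = e * (y * (e * y) ^ (-((i : ℤ) + 1)) * (e * y) ^ (-((i : ℤ) + 1))) := by
          rw [hy', h2, ← zpow_neg]
      _ = (e * y) ^ (1 : ℤ) * (e * y) ^ (-((i : ℤ) + 1)) * (e * y) ^ (-((i : ℤ) + 1)) := by
          rw [zpow_one, mul_assoc, mul_assoc, mul_assoc]
      _ = _ := by rw [← zpow_add, ← zpow_add]; congr 1; ring
  have hpow : (e * y') ^ (2 ^ j) = 1 := by
    rw [hey, ← zpow_natCast, ← zpow_mul]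
    have : (-(2 * (i : ℤ) + 1)) * ((2 ^ j : ℕ) : ℤ) = -((orderOf (e * y) : ℕ) : ℤ) := by
      rw [hn, hi]; push_cast; ring
    rw [this, zpow_neg, zpow_natCast, pow_orderOf_eq_one, inv_one]
  intro ⟨d, hd⟩
  refine ⟨j + 1, Subtype.ext ?_⟩
  show d ^ (2 ^ (j + 1)) = 1
  obtain ⟨k, rfl | rfl⟩ := (mem_closure_pair_iff he hy'2).1 hd
  · rw [← zpow_natCast, ← zpow_mul, mul_comm k, zpow_mul, zpow_natCast, pow_succ, pow_mul, hpow,
      one_pow, one_zpow]
  · have hsq : e * (e * y') ^ k * (e * (e * y') ^ k) = 1 := by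
      conv_lhs => arg 1; rw [invol_mul_zpow he hy'2]
      rw [mul_assoc, ← mul_assoc e e, invol_mul_self he, one_mul,
        ← zpow_add, neg_add_cancel, zpow_zero]
    rw [pow_succ', pow_mul, pow_two, hsq, one_pow]

end CfsgLib.CosetCore
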