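import Cfsg.Agent.Lib.CosetCore.Functor
import Cfsg.Agent.Lib.Components.LocalBalance
import Cfsg.Agent.Lib.Involutions.ZStar.Main

/-!
# A weakly closed central subgroup and a coset of involutions: induction
-/

set_option autoImplicit false
set_option linter.style.haveILetI false
set_option linter.unusedSectionVars false

namespace CfsgLib.CosetCore

open Cfsg Subgroup CfsgLib.Base CfsgLib.Involutions

universe u v

section maps

variable {G : Type u} [Group G] [Finite G] {H : Type v} [Group H] [Finite H]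

theorem map_o22_le (f : G →* H) (C : Subgroup G) : (o22 C).map f ≤ o22 (C.map f) := by
  refine le_o22 (map_mono (o22_le C)) ((map_mono (le_normalizer_o22 C)).trans (le_normalizer_map f))
    (map_mono (core_le C)) ((map_mono (le_normalizer_core C)).trans (le_normalizer_map f))
    ((core_coprime C).coprime_dvd_left (Subgroup.card_map_dvd _ _)) ?_
  rintro _ ⟨x, hx, rfl⟩
  obtain ⟨k, hk⟩ := exists_pow_mem_core hx
  exact ⟨k, _, hk, map_pow _ _ _⟩

theorem le_o22_of_subgroup {L : Subgroup G} {C : Subgroup G} {C' : Subgroup L}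
    (hC : ∀ x : L, x ∈ C' ↔ (x : G) ∈ C) {E : Subgroup G} (_hEL : E ≤ L) (hE : E ≤ o22 C) :
    E.subgroupOf L ≤ o22 C' := by
  have key : ∀ U : Subgroup G, C ≤ normalizer (U : Set G) →
      C' ≤ normalizer ((U.comap L.subtype ⊓ C' : Subgroup L) : Set L) := by
    intro U hU x hx
    refine inf_normalizer_le_normalizer_inf ⟨mem_normalizer_iff.2 fun y => ?_, le_normalizer hx⟩
    show (y : G) ∈ U ↔ ((x * y * x⁻¹ : L) : G) ∈ U
    simpa using mem_normalizer_iff.1 (hU ((hC x).1 hx)) (y : G)
  refine le_trans (le_inf (fun x hx => hE hx) fun x hx => (hC x).2 (o22_le C (hE hx)))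
    (le_o22 (N := (o22 C).comap L.subtype ⊓ C') (D := (core C).comap L.subtype ⊓ C') inf_le_right
      (key _ (le_normalizer_o22 C)) inf_le_right (key _ (le_normalizer_core C)) ?_ fun x hx => ?_)
  · refine (core_coprime C).coprime_dvd_left ?_
    rw [← card_map_subtype (K := L) ((core C).comap L.subtype ⊓ C')]
    exact Subgroup.card_dvd_of_le (map_le_iff_le_comap.2 inf_le_left)
  · obtain ⟨k, hk⟩ := exists_pow_mem_core (show (x : G) ∈ o22 C from hx.1)
    exact ⟨k, show ((x ^ 2 ^ k : L) : G) ∈ core C by simpa using hk, pow_mem hx.2 _⟩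

end maps

variable {G : Type u} [Group G] [Finite G] {T : Sylow 2 G} {E : Subgroup G} {t : G}

/-- Transport of the hypotheses along a surjection. -/
theorem Hyp.map [Fact (Nat.Prime 2)] (h : Hyp T E t) {H : Type u} [Group H] [Finite H]
    (f : G →* H) (hf : Function.Surjective f)
    (htE : f t ∉ E.map f)
    (hwc : ∀ g : G, cj (f g) (E.map f) ≤ ((T : Subgroup G).map f) → cj (f g) (E.map f) = E.map f)
    (hcos : ∀ w ∈ E, E.map f ≤ o22 (centralizer ({f (w * t)} : Set H))) :
    Hyp (T.mapSurjective hf) (E.map f) (f t) where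
  el := ⟨by haveI := h.el.1; infer_instance, by
    rintro _ ⟨x, hx, rfl⟩
    rw [← map_pow, h.el.2 x hx, map_one]⟩
  le := map_mono h.le
  cen := by
    rintro _ ⟨x, hx, rfl⟩
    refine mem_centralizer_iff.2 ?_
    rintro _ ⟨e, he, rfl⟩
    rw [← map_mul, ← map_mul, mem_centralizer_iff.1 (h.cen hx) e he]
  wc g hg := by
    obtain ⟨g, rfl⟩ := hf g
    exact hwc g hg
  ht := invol_iff.2 ⟨by rw [← map_mul, invol_mul_self h.ht, map_one],
    fun e => htE (e ▸ one_mem _)⟩
  htT := mem_map_of_mem f h.htT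
  htE := htE
  hcos w hw := by
    obtain ⟨w, hw', rfl⟩ := hw
    rw [← map_mul]
    exact hcos w hw'

private theorem step_core (n : ℕ) (hn : Nat.card G = n) (h : Hyp T E t)
    (ih : ∀ (H : Type u) [Group H] [Finite H] (T : Sylow 2 H) (E : Subgroup H) (t : H),
      Nat.card H < n → Hyp T E t → E ≤ pPrimePCore 2 H)
    (hO : pPrimeCore 2 G ≠ ⊥) : E ≤ pPrimePCore 2 G := by
  haveI : Fact (Nat.Prime 2) := ⟨Nat.prime_two⟩
  set N := pPrimeCore 2 G with hN
  set f := QuotientGroup.mk' N
  have hf : Function.Surjective f := QuotientGroup.mk'_surjective N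
  have hNo : (Nat.card N).Coprime 2 := pPrimeCore_coprime 2 G
  have hlt : Nat.card (G ⧸ N) < n := by
    rw [← hn, card_eq_card_quotient_mul_card_subgroup N]
    exact lt_mul_of_one_lt_right Nat.card_pos (N.one_lt_card_iff_ne_bot.2 hO)
  have htE : f t ∉ E.map f := by
    rintro ⟨e, he, hfe⟩
    have h1 : e⁻¹ * t ∈ N := QuotientGroup.eq.1 hfe
    have h2 : orderOf (e⁻¹ * t) = 2 := h.order_coset (inv_mem he)
    have h3 : orderOf (e⁻¹ * t) ∣ Nat.card N := Subgroup.orderOf_dvd_natCard N h1
    rw [h2] at h3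
    exact Nat.prime_two.coprime_iff_not_dvd.1 hNo.symm h3
  refine map_le_iff_le_comap.1 (le_trans ?_
    (CfsgLib.PLocal.pPrimePCore_eq_pCore (pPrimeCore_quotient_pPrimeCore 2 G)).le)
  refine ih _ (T.mapSurjective hf) (E.map f) (f t) hlt (h.map f hf htE (fun g hg => ?_) fun w hw => ?_)
  · have hg' : cj g E ≤ (T : Subgroup G) ⊔ N := by
      intro x hx
      obtain ⟨y, hy, rfl⟩ := hx
      obtain ⟨s, hs, hsx⟩ := hg ⟨_, mem_map_of_mem f hy, rfl⟩
      have h1 : s⁻¹ * (g * y * g⁻¹) ∈ N :=
        QuotientGroup.eq.1 (show f s = f (g * y * g⁻¹) by rw [hsx]; simp [f])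
      rw [show (MulAut.conj g).toMonoidHom y = s * (s⁻¹ * (g * y * g⁻¹)) by simp]
      exact mul_mem_sup hs h1
    obtain ⟨c, hc, hcg⟩ := h.exists_conj (le_sup_of_le_left h.le) hg'
    obtain ⟨s, hs, m, hm, rfl⟩ := (CfsgLib.Coprime.mem_sup_iff_of_le_normalizer
      (fun a _ => le_normalizer_of_normal (mem_top a))).1 hc
    have hfm : f m = 1 := (QuotientGroup.eq_one_iff m).2 hm
    have h2 : f s * f g ∈ normalizer ((E.map f : Subgroup _) : Set (G ⧸ N)) := by
      have := le_normalizer_map f (mem_map_of_mem f hcg)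
      rwa [map_mul, map_mul, hfm, mul_one] at this
    have h3 : f s ∈ normalizer ((E.map f : Subgroup _) : Set (G ⧸ N)) :=
      le_normalizer_map f (mem_map_of_mem f (centralizer_le_normalizer _ (h.cen hs)))
    exact cj_of_mem_normalizer (by simpa using mul_mem (inv_mem h3) h2)
  · refine le_trans (map_mono (h.hcos w hw)) ((map_o22_le f _).trans (le_of_eq (congrArg o22 ?_)))
    refine le_antisymm ?_ fun y hy => ?_
    · rintro _ ⟨x, hx, rfl⟩
      exact mem_centralizer_singleton_iff.2 (by
        rw [← map_mul, ← map_mul, mem_centralizer_singleton_iff.1 hx])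
    · obtain ⟨y, rfl⟩ := hf y
      obtain ⟨c, hc, hcy⟩ := CfsgLib.Components.exists_centralizer_lift (p := 2) hNo
        (b := w * t) (by rw [pow_two, invol_mul_self (h.order_coset hw)]) (g := y)
        (mem_centralizer_singleton_iff.1 hy)
      exact ⟨c, mem_centralizer_singleton_iff.2 hc, hcy⟩

private theorem step_central (n : ℕ) (hn : Nat.card G = n) (h : Hyp T E t)
    (ih : ∀ (H : Type u) [Group H] [Finite H] (T : Sylow 2 H) (E : Subgroup H) (t : H),
      Nat.card H < n → Hyp T E t → E ≤ pPrimePCore 2 H)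
    (hO : pPrimeCore 2 G = ⊥) {e : G} (he : e ∈ E) (he1 : e ≠ 1) (hec : e ∈ center G) :
    E ≤ pPrimePCore 2 G := by
  haveI : Fact (Nat.Prime 2) := ⟨Nat.prime_two⟩
  have hec' : ∀ g, g * e = e * g := fun g => (mem_center_iff.1 hec g)
  set Z := zpowers e with hZ
  have hZE : Z ≤ E := zpowers_le.2 he
  have hZc : Z ≤ center G := zpowers_le.2 hec
  haveI : Z.Normal := ⟨fun z hz g => by rwa [mem_center_iff.1 (hZc hz) g, mul_inv_cancel_right]⟩
  set f := QuotientGroup.mk' Z
  have hf : Function.Surjective f := QuotientGroup.mk'_surjective Z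
  have hcardZ : Nat.card Z = 2 := by rw [Nat.card_zpowers, invol_iff.2 ⟨h.sq he, he1⟩]
  have hlt : Nat.card (G ⧸ Z) < n := by
    rw [← hn, card_eq_card_quotient_mul_card_subgroup Z, hcardZ]
    have : 0 < Nat.card (G ⧸ Z) := Nat.card_pos
    omega
  have hback : ∀ {U : Subgroup G}, Z ≤ U → ∀ {x : G}, f x ∈ U.map f → x ∈ U := by
    intro U hU x hx
    obtain ⟨u, hu, hux⟩ := hx
    have := hU (QuotientGroup.eq.1 hux)
    simpa using mul_mem hu this
  have htE : f t ∉ E.map f := fun h1 => h.htE (hback hZE h1)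
  have hmain : E.map f ≤ pPrimePCore 2 (G ⧸ Z) := by
    refine ih _ (T.mapSurjective hf) (E.map f) (f t) hlt
      (h.map f hf htE (fun g hg => ?_) fun w hw => ?_)
    · have hg' : cj g E ≤ (T : Subgroup G) := by
        rintro _ ⟨y, hy, rfl⟩
        refine hback (hZE.trans h.le) ?_
        simpa [cj] using hg ⟨_, mem_map_of_mem f hy, rfl⟩
      rw [show cj (f g) (E.map f) = (cj g E).map f by
        rw [cj, cj, Subgroup.map_map, Subgroup.map_map]
        congr 1, h.wc g hg']
    · set C := centralizer ({w * t} : Set G) with hCdef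
      set P := (centralizer ({f (w * t)} : Set (G ⧸ Z))).comap f with hP
      have hCP : C ≤ P := fun x hx => mem_centralizer_singleton_iff.2 (by
        rw [← map_mul, ← map_mul, mem_centralizer_singleton_iff.1 hx])
      have hPC : P ≤ normalizer (C : Set G) := by
        intro p hp
        refine mem_normalizer_of_cj (le_of_eq ?_)
        rw [hCdef, cj_centralizer]
        have h1 : f (p * (w * t) * p⁻¹) = f (w * t) := by
          rw [map_mul, map_mul, map_inv, mem_centralizer_singleton_iff.1 (show f p ∈ _ from hp),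
            mul_inv_cancel_right]
        obtain ⟨i, hi⟩ := mem_zpowers_iff.1 (QuotientGroup.eq.1 h1.symm)
        have h2 : p * (w * t) * p⁻¹ = w * t * e ^ i := by rw [hi]; group
        rw [h2]
        ext x
        rw [mem_centralizer_singleton_iff, mem_centralizer_singleton_iff, ← mul_assoc x,
          mul_assoc (w * t) (e ^ i) x, (((show Commute x e from hec' x).zpow_right i).eq.symm),
          ← mul_assoc (w * t), mul_left_inj]
      have hEP : E ≤ o22 P := le_trans (h.hcos w hw) (le_o22 ((o22_le C).trans hCP)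
        (hPC.trans (normalizer_le_normalizer_o22 C)) ((core_le C).trans hCP)
        (hPC.trans (normalizer_le_normalizer_core C)) (core_coprime C) fun x hx =>
          exists_pow_mem_core hx)
      refine le_trans (map_mono hEP) ((map_o22_le f _).trans (le_of_eq (congrArg o22 ?_)))
      exact map_comap_eq_self_of_surjective hf _
  set D := (pPrimeCore 2 (G ⧸ Z)).comap f
  have hD2 : ∀ x ∈ D, x * x = 1 := by
    set ZD := Z.subgroupOf D
    have hZD : Z ≤ D := fun z hz => by
      refine Subgroup.mem_comap.2 ?_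
      rw [show f z = 1 from (QuotientGroup.eq_one_iff z).2 hz]
      exact one_mem _
    have hcD : Nat.card ZD = 2 := by rw [card_subgroupOf hZD, hcardZ]
    have hidx : ZD.index = Nat.card (pPrimeCore 2 (G ⧸ Z)) := by
      show Z.relIndex D = _
      have h1 : f.ker.relIndex D = Nat.card (D.map f) := relIndex_ker D f
      rw [QuotientGroup.ker_mk', map_comap_eq_self_of_surjective hf] at h1
      exact h1
    haveI : ZD.Normal := inferInstance
    obtain ⟨K, hK⟩ := exists_right_complement'_of_coprime (N := ZD)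
      (by rw [hidx, hcD]; exact (pPrimeCore_coprime 2 _).symm)
    have hKc : (Nat.card K).Coprime 2 := by
      rw [← (IsComplement'.symm hK).index_eq_card, hidx]
      exact pPrimeCore_coprime 2 _
    have hodd : ∀ u : D, (orderOf u).Coprime 2 → u ∈ K := by
      intro u hu
      obtain ⟨⟨z, k⟩, hzk⟩ := hK.2 u
      have hz2 : (z : D) * (z : D) = 1 := by
        have := pow_card_eq_one' (G := ZD) (x := z)
        rw [hcD, pow_two] at this
        exact congrArg Subtype.val this
      have hc : Commute (z : D) (k : D) := Subtype.ext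
        ((mem_center_iff.1 (hZc z.2) _).symm)
      have hu2 : u ^ 2 ∈ K := by
        have hzk' : u = (z : D) * (k : D) := hzk.symm
        rw [hzk', hc.mul_pow, pow_two, hz2, one_mul]
        exact pow_mem k.2 2
      obtain ⟨i, hi⟩ := exists_pow_eq_self_of_coprime (x := u) (n := 2) hu.symm
      rw [← hi]
      exact pow_mem hu2 i
    have hKn : (K.map D.subtype).Normal := by
      refine ⟨?_⟩
      rintro _ ⟨k, hk, rfl⟩ g
      have hDn : D.Normal := Normal.comap inferInstance _
      refine ⟨⟨g * k * g⁻¹, hDn.conj_mem _ k.2 g⟩, hodd _ ?_, rfl⟩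
      have hord : orderOf (⟨g * k * g⁻¹, hDn.conj_mem _ k.2 g⟩ : D) = orderOf k :=
        ((orderOf_injective D.subtype Subtype.val_injective _).symm.trans
          (MulEquiv.orderOf_eq (MulAut.conj g) (k : G))).trans
          (orderOf_injective D.subtype Subtype.val_injective k)
      exact hord ▸ hKc.coprime_dvd_left (Subgroup.orderOf_dvd_natCard K hk)
    have hKb : K = ⊥ := by
      have h1 : K.map D.subtype ≤ pPrimeCore 2 G :=
        le_pPrimeCore (by rw [card_map_subtype]; exact hKc)
      rw [hO, le_bot_iff, Subgroup.map_eq_bot_iff, ker_subtype, le_bot_iff] at h1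
      exact h1
    intro x hx
    obtain ⟨⟨z, k⟩, hzk⟩ := hK.2 ⟨x, hx⟩
    have hk1 : (k : D) = 1 := (Subgroup.mem_bot).1 (hKb ▸ k.2)
    have hzx : (z : D) = ⟨x, hx⟩ := by rw [← hzk]; simp [hk1]
    have := pow_card_eq_one' (G := ZD) (x := z)
    rw [hcD, pow_two] at this
    have h5 := congrArg (fun u : ZD => ((u : D) : G)) this
    simpa [hzx] using h5
  set U := (pPrimePCore 2 (G ⧸ Z)).comap f
  haveI : U.Normal := (CfsgLib.PLocal.pPrimePCore_normal 2 _).comap f
  have hU : IsPGroup 2 U := by
    intro x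
    obtain ⟨k, hk⟩ := CfsgLib.FT.exists_pow_mem_of_mem_pPrimePCore (show f x ∈ _ from x.2)
    refine ⟨k + 1, Subtype.ext ?_⟩
    show (x : G) ^ 2 ^ (k + 1) = 1
    rw [pow_succ, pow_mul, pow_two]
    exact hD2 _ (Subgroup.mem_comap.2 (by rwa [map_pow]))
  rw [CfsgLib.PLocal.pPrimePCore_eq_pCore hO]
  exact (map_le_iff_le_comap.1 hmain).trans (le_pCore hU)

private theorem step_small (h : Hyp T E t) (hO : pPrimeCore 2 G = ⊥) (h2 : Nat.card E = 2)
    (hnc : ∀ e ∈ E, e ≠ 1 → e ∉ center G) : E ≤ pPrimePCore 2 G := by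
  haveI : Fact (Nat.Prime 2) := ⟨Nat.prime_two⟩
  exfalso
  have hne : E ≠ ⊥ := fun e => by rw [e, card_bot] at h2; omega
  obtain ⟨⟨e, he⟩, hne1⟩ := (Subgroup.ne_bot_iff_exists_ne_one (H := E)).1 hne
  have he1 : e ≠ 1 := fun h1 => hne1 (Subtype.ext h1)
  have hall : ∀ x ∈ E, x ≠ 1 → x = e := by
    intro x hx hx1
    by_contra hxe
    have : 3 ≤ Nat.card E := by
      have h3 : ({1, e, x} : Set G).ncard = 3 :=
        Set.ncard_eq_three.2 ⟨1, e, x, he1.symm, hx1.symm, Ne.symm hxe, rfl⟩
      rw [← h3, ← SetLike.coe_sort_coe, Nat.card_coe_set_eq]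
      exact Set.ncard_le_ncard (by simp [Set.insert_subset_iff, he, hx])
    omega
  refine hnc e he he1 (ZStar.mem_center_of_oddCore_eq_bot ⟨invol_iff.2 ⟨h.sq he, he1⟩, ?_⟩ hO)
  intro g hg
  have hgE : cj g E ≤ normalizer (E : Set G) := by
    rintro _ ⟨x, hx, rfl⟩
    refine centralizer_le_normalizer _ (mem_centralizer_iff.2 fun y hy => ?_)
    rcases eq_or_ne y 1 with rfl | hy1
    · simp
    rcases eq_or_ne x 1 with rfl | hx1
    · simp
    rw [hall y hy hy1, hall x hx hx1]
    exact hg.eq
  have hP : IsPGroup 2 (cj g E ⊔ E : Subgroup G) :=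
    ((isPGroup_el h.el).map _).to_sup_of_normal_right' (isPGroup_el h.el) hgE
  obtain ⟨z, hz⟩ := h.exists_sylow_over hP
  have e1 : cj g E = cj z E := h.eq_cj (le_sup_left.trans hz)
  have e2 : cj 1 E = cj z E := h.eq_cj (by rw [cj_one]; exact le_sup_right.trans hz)
  have e3 : cj g E = E := by rw [e1, ← e2, cj_one]
  have hmem : g * e * g⁻¹ ∈ E := e3 ▸ conj_mem_cj.2 he
  exact hall _ hmem fun h1 => he1 (by simpa using h1)

private theorem main (n : ℕ) : ∀ (G : Type u) [Group G] [Finite G] (T : Sylow 2 G)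
    (E : Subgroup G) (t : G), Nat.card G = n → Hyp T E t → E ≤ pPrimePCore 2 G := by
  induction n using Nat.strong_induction_on with
  | _ n ihn =>
  intro G _ _ T E t hn h
  haveI : Fact (Nat.Prime 2) := ⟨Nat.prime_two⟩
  have ih : ∀ (H : Type u) [Group H] [Finite H] (T : Sylow 2 H) (E : Subgroup H) (t : H),
      Nat.card H < n → Hyp T E t → E ≤ pPrimePCore 2 H :=
    fun H _ _ T E t hlt hH => ihn _ hlt H T E t rfl hH
  by_cases hO : pPrimeCore 2 G = ⊥
  swap
  · exact step_core n hn h ih hO
  by_cases hc : ∃ e ∈ E, e ≠ 1 ∧ e ∈ center G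
  · obtain ⟨e, he, he1, hec⟩ := hc
    exact step_central n hn h ih hO he he1 hec
  push Not at hc
  obtain ⟨k, hk⟩ := IsPGroup.iff_card.1 (isPGroup_el h.el)
  rcases k with _ | _ | k
  · rw [eq_bot_of_card_eq E (by simpa using hk)]; exact bot_le
  · exact step_small h hO (by simpa using hk) hc
  have h4 : 4 ≤ Nat.card E := by
    rw [hk, pow_succ, pow_succ]
    have : 0 < 2 ^ k := pow_pos two_pos k
    omega
  refine Core.le_pPrimePCore' (t := t) (T := T) ⟨h, h4, fun e he he1 => ?_⟩ hO
  set L := centralizer ({e} : Set G)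
  have hTL : (T : Subgroup G) ≤ L := fun x hx =>
    mem_centralizer_singleton_iff.2 (mem_centralizer_iff.1 (h.cen hx) e he).symm
  have hEL : E ≤ L := h.le.trans hTL
  have hlt : Nat.card L < n := by
    rw [← hn]
    refine lt_of_le_of_ne (Nat.le_of_dvd Nat.card_pos (card_subgroup_dvd_card L)) fun hcard => ?_
    refine hc e he he1 (mem_center_iff.2 fun g => ?_)
    have : g ∈ L := by rw [(card_eq_iff_eq_top L).1 hcard]; trivial
    exact mem_centralizer_singleton_iff.1 this
  have hinner : E.subgroupOf L ≤ pPrimePCore 2 L := by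
    refine ih L (T.subtype hTL) (E.subgroupOf L) ⟨t, hTL h.htT⟩ hlt
      { el := ⟨?_, fun a ha => Subtype.ext (h.el.2 _ ha)⟩
        le := fun x hx => h.le hx
        cen := ?_
        wc := ?_
        ht := by rw [← Subgroup.orderOf_coe]; exact h.ht
        htT := h.htT
        htE := h.htE
        hcos := ?_ }
    · exact ⟨⟨fun a b => Subtype.ext (Subtype.ext
        (mem_centralizer_iff.1 (h.le_centralizer b.2) _ a.2))⟩⟩
    · intro x hx
      exact mem_centralizer_iff.2 fun y hy =>
        Subtype.ext (mem_centralizer_iff.1 (h.cen hx) _ hy)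
    · intro g hg
      have h1 : cj (g : G) E ≤ (T : Subgroup G) := by
        rintro _ ⟨y, hy, rfl⟩
        exact hg ⟨⟨y, hEL hy⟩, hy, rfl⟩
      have h2 := h.wc _ h1
      refine Subgroup.ext fun x => ⟨fun hx => ?_, fun hx => mem_cj.2 ?_⟩
      · have h3 : ((g⁻¹ * x * g : L) : G) ∈ E := (mem_cj (G := L)).1 hx
        show (x : G) ∈ E
        rw [← h2]
        exact mem_cj.2 (by simpa using h3)
      · show ((g⁻¹ * x * g : L) : G) ∈ E
        have h3 : (x : G) ∈ cj (g : G) E := by rw [h2]; exact hx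
        simpa using mem_cj.1 h3
    · intro w hw
      exact le_o22_of_subgroup (C := centralizer ({(w : G) * t} : Set G))
        (fun x => by simp [mem_centralizer_singleton_iff, Subtype.ext_iff]) hEL (h.hcos _ hw)
  exact (map_subgroupOf_eq_of_le hEL).ge.trans (map_mono hinner)

/-- A weakly closed elementary abelian subgroup of the centre of a Sylow `2`-subgroup lying in
`O_{2',2}(C(x))` for every involution `x` of one coset lies in `O_{2',2}(G)`. -/
theorem le_pPrimePCore (h : Hyp T E t) : E ≤ pPrimePCore 2 G :=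
  main (Nat.card G) G T E t rfl h

end CfsgLib.CosetCore
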